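import Groth.Agent.CommAlgDim.HilbertSamuel
import Groth.Agent.CommAlgDim.CM
import Groth.Agent.CMFlatLib.RegFlat
import Mathlib

/-! Kunz's characterisation of regular rings by flatness of the Frobenius. -/

set_option autoImplicit false
universe u

open IsLocalRing Filter Polynomial

namespace KunzLib

section Lech

variable {R : Type u} [CommRing R] {n : ℕ}

/-- Every relation of the family has coefficients in the ideal it generates. -/
def Indep (f : Fin n → R) : Prop := ∀ a : Fin n → R, ∑ i, a i * f i = 0 → ∀ i, a i ∈ Ideal.span (Set.range f)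

theorem span_update_le {f : Fin n → R} {j : Fin n} {g : R} (hg : ∃ c, f j = c * g) :
    Ideal.span (Set.range f) ≤ Ideal.span (Set.range (Function.update f j g)) := by
  classical
  refine Ideal.span_le.2 (Set.range_subset_iff.2 fun i => ?_)
  by_cases hi : i = j
  · subst hi
    obtain ⟨c, hc⟩ := hg
    rw [hc]
    exact Ideal.mul_mem_left _ _ (Ideal.subset_span ⟨i, Function.update_self ..⟩)
  · exact Ideal.subset_span ⟨i, Function.update_of_ne hi ..⟩

theorem sum_update (f : Fin n → R) (a : Fin n → R) (j : Fin n) (g : R) :
    ∑ i, a i * Function.update f j g i = a j * g + ∑ i ∈ Finset.univ.erase j, a i * f i := by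
  classical
  rw [← Finset.add_sum_erase _ _ (Finset.mem_univ j), Function.update_self]
  congr 1
  exact Finset.sum_congr rfl fun i hi => by rw [Function.update_of_ne (Finset.ne_of_mem_erase hi)]

theorem Indep.update {f : Fin n → R} (hf : Indep f) {j : Fin n} {g h : R} (hgh : f j = g * h) :
    Indep (Function.update f j g) := by
  classical
  intro a ha
  have hle := span_update_le (f := f) (j := j) (g := g) ⟨h, hgh.trans (mul_comm _ _)⟩
  rw [sum_update] at ha
  -- the coefficient of `g`
  let b : Fin n → R := Function.update (fun i => h * a i) j (a j)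
  have hb : ∑ i, b i * f i = 0 := by
    rw [← Finset.add_sum_erase _ _ (Finset.mem_univ j)]
    have h1 : ∑ i ∈ Finset.univ.erase j, b i * f i = h * ∑ i ∈ Finset.univ.erase j, a i * f i := by
      rw [Finset.mul_sum]
      refine Finset.sum_congr rfl fun i hi => ?_
      rw [show b i = h * a i from Function.update_of_ne (Finset.ne_of_mem_erase hi) ..]
      ring
    rw [h1, show b j = a j from Function.update_self .., hgh]
    linear_combination h * ha
  have haj : a j ∈ Ideal.span (Set.range f) := by
    have := hf b hb j
    rwa [show b j = a j from Function.update_self ..] at this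
  obtain ⟨c, hc⟩ := Ideal.mem_span_range_iff_exists_fun.1 haj
  rw [← Finset.add_sum_erase _ _ (Finset.mem_univ j)] at hc
  -- substitute it back
  let d : Fin n → R := Function.update (fun i => a i + g * c i) j (c j * g)
  have hd : ∑ i, d i * f i = 0 := by
    rw [← Finset.add_sum_erase _ _ (Finset.mem_univ j)]
    have h1 : ∑ i ∈ Finset.univ.erase j, d i * f i =
        (∑ i ∈ Finset.univ.erase j, a i * f i) + g * ∑ i ∈ Finset.univ.erase j, c i * f i := by
      rw [Finset.mul_sum, ← Finset.sum_add_distrib]
      refine Finset.sum_congr rfl fun i hi => ?_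
      rw [show d i = a i + g * c i from Function.update_of_ne (Finset.ne_of_mem_erase hi) ..]
      ring
    rw [h1, show d j = c j * g from Function.update_self ..]
    linear_combination ha + g * hc
  intro i
  by_cases hi : i = j
  · subst hi
    exact hle haj
  · have h2 := hle (hf d hd i)
    rw [show d i = a i + g * c i from Function.update_of_ne hi ..] at h2
    have h3 : g * c i ∈ Ideal.span (Set.range (Function.update f j g)) :=
      Ideal.mul_mem_right _ _ (Ideal.subset_span ⟨j, Function.update_self ..⟩)
    simpa using sub_mem h2 h3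

theorem length_split {f : Fin n → R} (hf : Indep f) {j : Fin n} {g h : R} (hgh : f j = g * h) :
    Module.length R (R ⧸ Ideal.span (Set.range f)) =
      Module.length R (R ⧸ Ideal.span (Set.range (Function.update f j h))) +
      Module.length R (R ⧸ Ideal.span (Set.range (Function.update f j g))) := by
  classical
  let If := Ideal.span (Set.range f)
  let Ig := Ideal.span (Set.range (Function.update f j g))
  let Ih := Ideal.span (Set.range (Function.update f j h))
  have hg : g ∈ Ig := Ideal.subset_span ⟨j, Function.update_self ..⟩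
  have hfg : If ≤ Ig := span_update_le ⟨h, hgh.trans (mul_comm _ _)⟩
  have hfh : If ≤ Ih := span_update_le ⟨g, hgh⟩
  have hkey : ∀ x, g * x ∈ If ↔ x ∈ Ih := fun x => by
    constructor
    · intro hx
      obtain ⟨a, ha⟩ := Ideal.mem_span_range_iff_exists_fun.1 hx
      rw [← Finset.add_sum_erase _ _ (Finset.mem_univ j), hgh] at ha
      let b : Fin n → R := Function.update (fun i => -(h * a i)) j (x - a j * h)
      have hb : ∑ i, b i * f i = 0 := by
        rw [← Finset.add_sum_erase _ _ (Finset.mem_univ j)]
        have h1 : ∑ i ∈ Finset.univ.erase j, b i * f i = -(h * ∑ i ∈ Finset.univ.erase j, a i * f i) := by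
          rw [Finset.mul_sum, ← Finset.sum_neg_distrib]
          refine Finset.sum_congr rfl fun i hi => ?_
          rw [show b i = -(h * a i) from Function.update_of_ne (Finset.ne_of_mem_erase hi) ..]
          ring
        rw [h1, show b j = x - a j * h from Function.update_self .., hgh]
        linear_combination -h * ha
      have h2 := hfh (hf b hb j)
      rw [show b j = x - a j * h from Function.update_self ..] at h2
      have h3 : a j * h ∈ Ih := Ideal.mul_mem_left _ _ (Ideal.subset_span ⟨j, Function.update_self ..⟩)
      simpa using add_mem h2 h3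
    · intro hx
      obtain ⟨a, ha⟩ := Ideal.mem_span_range_iff_exists_fun.1 hx
      rw [sum_update] at ha
      rw [← ha, mul_add, Finset.mul_sum]
      refine add_mem ?_ (sum_mem fun i hi => ?_)
      · rw [show g * (a j * h) = a j * f j by rw [hgh]; ring]
        exact Ideal.mul_mem_left _ _ (Ideal.subset_span ⟨j, rfl⟩)
      · exact Ideal.mul_mem_left _ _ (Ideal.mul_mem_left _ _ (Ideal.subset_span ⟨i, rfl⟩))
  let φ : (R ⧸ Ih) →ₗ[R] R ⧸ If := Submodule.mapQ Ih If (LinearMap.mulLeft R g) fun x hx => (hkey x).2 hx
  have hφ : Function.Injective φ := by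
    refine (injective_iff_map_eq_zero φ).2 fun z hz => ?_
    obtain ⟨x, rfl⟩ := Submodule.mkQ_surjective _ z
    exact (Submodule.Quotient.mk_eq_zero _).2 ((hkey x).1 ((Submodule.Quotient.mk_eq_zero _).1 hz))
  refine Module.length_eq_add_of_exact φ (Submodule.factor hfg) hφ (Submodule.factor_surjective _) fun z => ?_
  obtain ⟨x, rfl⟩ := Submodule.mkQ_surjective _ z
  constructor
  · intro hx
    have hxg : x ∈ Ig := (Submodule.Quotient.mk_eq_zero _).1 hx
    obtain ⟨a, ha⟩ := Ideal.mem_span_range_iff_exists_fun.1 hxg
    rw [sum_update] at ha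
    refine ⟨Submodule.Quotient.mk (a j), (Submodule.Quotient.eq _).2 ?_⟩
    change g * a j - x ∈ If
    rw [← ha, show g * a j - (a j * g + ∑ i ∈ Finset.univ.erase j, a i * f i) =
      -∑ i ∈ Finset.univ.erase j, a i * f i by ring]
    exact neg_mem (sum_mem fun i _ => Ideal.mul_mem_left _ _ (Ideal.subset_span ⟨i, rfl⟩))
  · rintro ⟨w, hw⟩
    obtain ⟨c, rfl⟩ := Submodule.mkQ_surjective _ w
    rw [← hw]
    exact (Submodule.Quotient.mk_eq_zero _).2 (Ideal.mul_mem_right _ _ hg)

/-- Independent monomial families have at least the expected length. -/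
theorem prod_le_length {x : Fin n → R} (hx : Ideal.span (Set.range x) ≠ ⊤) : ∀ (N : ℕ) (a : Fin n → ℕ),
    ∑ i, a i = N → (∀ i, 1 ≤ a i) → Indep (fun i => x i ^ a i) →
    ((∏ i, a i : ℕ) : ℕ∞) ≤ Module.length R (R ⧸ Ideal.span (Set.range fun i => x i ^ a i)) := by
  classical
  intro N
  induction N using Nat.strong_induction_on with
  | _ N ih =>
    intro a hN ha hind
    by_cases h1 : ∀ i, a i = 1
    · rw [show (fun i => x i ^ a i) = x from funext fun i => by rw [h1 i, pow_one],
        Finset.prod_eq_one (fun i _ => h1 i), Nat.cast_one, Order.one_le_iff_pos]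
      haveI : Nontrivial (R ⧸ Ideal.span (Set.range x)) := Ideal.Quotient.nontrivial_iff.2 hx
      exact Module.length_pos
    · push Not at h1
      obtain ⟨j, hj⟩ := h1
      have hj2 : 2 ≤ a j := by have := ha j; omega
      have hf : (fun i => x i ^ a i) j = x j ^ (a j - 1) * x j := by
        change x j ^ a j = _
        rw [← pow_succ, show a j - 1 + 1 = a j by omega]
      let b := Function.update a j (a j - 1)
      let c := Function.update a j 1
      have hb : Function.update (fun i => x i ^ a i) j (x j ^ (a j - 1)) = fun i => x i ^ b i := funext fun i => by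
        by_cases hi : i = j
        · subst hi; simp [b]
        · simp [b, Function.update_of_ne hi]
      have hc : Function.update (fun i => x i ^ a i) j (x j) = fun i => x i ^ c i := funext fun i => by
        by_cases hi : i = j
        · subst hi; simp [c]
        · simp [c, Function.update_of_ne hi]
      have hib := hind.update hf
      have hic := hind.update (hf.trans (mul_comm _ _))
      rw [hb] at hib
      rw [hc] at hic
      rw [length_split hind hf, hb, hc]
      have hsum : ∀ v, ∑ i, Function.update a j v i = v + ∑ i ∈ Finset.univ.erase j, a i := fun v => by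
        rw [← Finset.add_sum_erase _ _ (Finset.mem_univ j), Function.update_self]
        congr 1
        exact Finset.sum_congr rfl fun i hi => Function.update_of_ne (Finset.ne_of_mem_erase hi) ..
      have hprod : ∀ v, ∏ i, Function.update a j v i = v * ∏ i ∈ Finset.univ.erase j, a i := fun v => by
        rw [← Finset.mul_prod_erase _ _ (Finset.mem_univ j), Function.update_self]
        congr 1
        exact Finset.prod_congr rfl fun i hi => Function.update_of_ne (Finset.ne_of_mem_erase hi) ..
      have hN' : a j + ∑ i ∈ Finset.univ.erase j, a i = N := hN ▸ Finset.add_sum_erase _ _ (Finset.mem_univ j)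
      have h2 := ih (∑ i, b i) (by simp only [b, hsum]; omega) b rfl (fun i => by
        by_cases hi : i = j
        · subst hi; simp [b]; omega
        · simpa [b, Function.update_of_ne hi] using ha i) hib
      have h3 := ih (∑ i, c i) (by simp only [c, hsum]; omega) c rfl (fun i => by
        by_cases hi : i = j
        · subst hi; simp [c]
        · simpa [c, Function.update_of_ne hi] using ha i) hic
      refine le_trans (le_of_eq ?_) (add_le_add h3 h2)
      rw [← Nat.cast_add]
      simp only [b, c, hprod]
      rw [← Finset.mul_prod_erase _ _ (Finset.mem_univ j), one_mul]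
      congr 1
      calc a j * ∏ i ∈ Finset.univ.erase j, a i
          = (1 + (a j - 1)) * ∏ i ∈ Finset.univ.erase j, a i := by rw [show 1 + (a j - 1) = a j by omega]
        _ = _ := by rw [add_mul, one_mul]

/-- Powers of a finitely generated ideal lie in the ideal of powers of the generators. -/
theorem span_pow_le (x : Fin n → R) (q : ℕ) :
    Ideal.span (Set.range x) ^ (n * q + 1) ≤ Ideal.span (Set.range fun i => x i ^ q) := by
  classical
  induction n with
  | zero =>
    rw [Set.range_eq_empty x, Ideal.span_empty, zero_mul, zero_add, pow_one]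
    exact bot_le
  | succ n ih =>
    have h1 : Ideal.span (Set.range x) = Ideal.span {x 0} ⊔ Ideal.span (Set.range fun i : Fin n => x i.succ) := by
      rw [← Ideal.span_union]
      congr 1
      ext y
      simp [Fin.exists_fin_succ, eq_comm]
    rw [h1, show (n + 1) * q + 1 = q + (n * q + 1) by ring]
    refine (Ideal.sup_pow_add_le_pow_sup_pow).trans (sup_le ?_ ((ih _).trans (Ideal.span_le.2 ?_)))
    · rw [Ideal.span_singleton_pow, Ideal.span_singleton_le_iff_mem]
      exact Ideal.subset_span ⟨0, rfl⟩
    · rintro _ ⟨i, rfl⟩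
      exact Ideal.subset_span ⟨i.succ, rfl⟩

end Lech

/-- Flat maps preserve independence of minimal generators of the maximal ideal. -/
theorem indep_map {R S : Type u} [CommRing R] [IsLocalRing R] [CommRing S] (φ : R →+* S) (hφ : φ.Flat) {n : ℕ}
    {x : Fin n → R} (hx : Ideal.span (Set.range x) = maximalIdeal R) (hn : (maximalIdeal R).spanFinrank = n) :
    Indep fun i => φ (x i) := by
  classical
  letI := φ.toAlgebra
  haveI : Module.Flat R S := hφ
  intro a ha i
  obtain ⟨k, c, y, hy, hc⟩ := Module.Flat.isTrivialRelation_of_sum_smul_eq_zero (f := x) (x := a) (by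
    rw [← ha]
    exact Finset.sum_congr rfl fun i _ => by rw [Algebra.smul_def, mul_comm]; rfl)
  rw [hy i]
  refine sum_mem fun l _ => ?_
  rw [Algebra.smul_def]
  refine Ideal.mul_mem_right _ _ ?_
  have hcm : c i l ∈ maximalIdeal R := fun hu => by
    obtain ⟨u, hu⟩ := hu
    have h2 : maximalIdeal R ≤ Ideal.span ((Finset.univ.erase i).image x : Set R) := by
      rw [← hx]
      refine Ideal.span_le.2 (Set.range_subset_iff.2 fun j => ?_)
      by_cases hj : j = i
      · subst hj
        have h3 := hc l
        rw [← Finset.add_sum_erase _ _ (Finset.mem_univ j)] at h3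
        have h4 : x j * c j l ∈ Ideal.span ((Finset.univ.erase j).image x : Set R) := by
          rw [eq_neg_of_add_eq_zero_left h3]
          exact neg_mem (sum_mem fun m hm => Ideal.mul_mem_right _ _
            (Ideal.subset_span (Finset.mem_image_of_mem x hm)))
        rw [← hu] at h4
        have h5 := Ideal.mul_mem_right (↑u⁻¹ : R) _ h4
        rwa [mul_assoc, Units.mul_inv, mul_one] at h5
      · exact Ideal.subset_span (Finset.mem_image_of_mem x (Finset.mem_erase.2 ⟨hj, Finset.mem_univ j⟩))
    have h6 : maximalIdeal R = Ideal.span ((Finset.univ.erase i).image x : Set R) := le_antisymm h2 (by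
      rw [← hx]
      exact Ideal.span_mono (by simp [Set.subset_def]))
    have h7 := Submodule.spanFinrank_span_le_ncard_of_finite (R := R) (s := ((Finset.univ.erase i).image x : Set R))
      (Finset.finite_toSet _)
    change (Ideal.span ((Finset.univ.erase i).image x : Set R)).spanFinrank ≤ _ at h7
    rw [← h6, hn, Set.ncard_coe_finset] at h7
    have h8 := h7.trans Finset.card_image_le
    rw [Finset.card_erase_of_mem (Finset.mem_univ i), Finset.card_univ, Fintype.card_fin] at h8
    have := i.isLt
    omega
  rw [← hx] at hcm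
  refine (?_ : (Ideal.span (Set.range x)).map φ ≤ _) (Ideal.mem_map_of_mem φ hcm)
  rw [Ideal.map_span, ← Set.range_comp]
  rfl

/-- A minimal generating family of the maximal ideal. -/
theorem exists_minimal_generators (R : Type u) [CommRing R] [IsLocalRing R] [IsNoetherianRing R] :
    ∃ x : Fin (maximalIdeal R).spanFinrank → R, Ideal.span (Set.range x) = maximalIdeal R := by
  obtain ⟨s, hs, hspan⟩ := Submodule.FG.exists_span_finset_card_eq_spanFinrank (IsNoetherian.noetherian (maximalIdeal R))
  refine ⟨fun i => (s.equivFin.symm (Fin.cast hs.symm i) : R), ?_⟩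
  refine (congrArg Ideal.span (Set.ext fun y => ?_)).trans hspan
  constructor
  · rintro ⟨i, rfl⟩
    exact (s.equivFin.symm _).2
  · intro hy
    exact ⟨Fin.cast hs (s.equivFin ⟨y, hy⟩), by simp⟩

variable (p : ℕ) [Fact p.Prime]

theorem flat_iterateFrobenius {R : Type u} [CommRing R] [CharP R p] (h : (frobenius R p).Flat) :
    ∀ e, (iterateFrobenius R p e).Flat := by
  intro e
  induction e with
  | zero => rw [show iterateFrobenius R p 0 = RingHom.id R from RingHom.ext fun x => iterateFrobenius_zero_apply R p x]; exact RingHom.Flat.id R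
  | succ e ih =>
    rw [show iterateFrobenius R p (e + 1) = (frobenius R p).comp (iterateFrobenius R p e) from RingHom.ext fun x => by
      rw [RingHom.comp_apply, iterateFrobenius_def, frobenius_def, iterateFrobenius_def, ← pow_mul, pow_succ]]
    exact ih.comp h

/-- A local ring with flat Frobenius is regular. -/
theorem isRegularLocalRing_of_flat {R : Type u} [CommRing R] [IsLocalRing R] [IsNoetherianRing R] [CharP R p]
    (h : (frobenius R p).Flat) : IsRegularLocalRing R := by
  classical
  obtain ⟨n, hn⟩ : ∃ n, n = (maximalIdeal R).spanFinrank := ⟨_, rfl⟩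
  obtain ⟨x, hx⟩ : ∃ x : Fin n → R, Ideal.span (Set.range x) = maximalIdeal R := hn ▸ exists_minimal_generators R
  obtain ⟨r, a, ha⟩ := Submodule.fg_iff_exists_fin_generating_family.1 (IsNoetherian.noetherian (Ring.jacobson R))
  haveI : Finite (MaximalSpectrum R) := Finite.of_injective (fun _ => ()) fun a b _ =>
    MaximalSpectrum.ext ((IsLocalRing.eq_maximalIdeal a.2).trans (IsLocalRing.eq_maximalIdeal b.2).symm)
  obtain ⟨P, hP⟩ := CommAlgDim.exists_isHSPoly_jacobson (R := R) R
  have hdim : (P.natDegree : WithBot ℕ∞) = ringKrullDim R := by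
    rw [CommAlgDim.natDegree_eq_supportDim hP, Module.supportDim_self_eq_ringKrullDim]
  refine IsRegularLocalRing.of_spanFinrank_maximalIdeal_le R ?_
  rw [← hdim, ← hn]
  suffices hle : n ≤ P.natDegree by exact_mod_cast hle
  by_contra hlt
  push Not at hlt
  have hJ : Ring.jacobson R = Ideal.span (Set.range x) := by
    rw [IsLocalRing.ringJacobson_eq_maximalIdeal]; exact hx.symm
  have hbound : ∀ e : ℕ, ((p ^ e) ^ n : ℕ) ≤ CommAlgDim.chi (Ring.jacobson R) R (n * p ^ e + 1) := fun e => by
    have hind := indep_map (iterateFrobenius R p e) (flat_iterateFrobenius p h e) hx hn.symm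
    have h1 := prod_le_length (x := x) (by rw [show Ideal.span (Set.range x) = maximalIdeal R from hx]; exact (maximalIdeal.isMaximal R).ne_top)
      _ (fun _ => p ^ e) rfl (fun _ => Nat.one_le_pow _ _ (Fact.out : p.Prime).pos) (by
        simpa only [iterateFrobenius_def] using hind)
    rw [Finset.prod_const, Finset.card_univ, Fintype.card_fin] at h1
    have hfin := CommAlgDim.length_quotient_ne_top (I := Ring.jacobson R) (M := R)
      CommAlgDim.length_quotient_jacobson_ne_top (n * p ^ e + 1)
    have hle : (Ring.jacobson R ^ (n * p ^ e + 1)) • (⊤ : Submodule R R) ≤ Ideal.span (Set.range fun i => x i ^ p ^ e) := by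
      rw [Ideal.smul_eq_mul, Ideal.mul_top, hJ]
      exact span_pow_le x _
    have h2 := h1.trans (Module.length_le_of_surjective (Submodule.factor hle) (Submodule.factor_surjective _))
    rw [← CommAlgDim.coe_len hfin] at h2
    exact_mod_cast h2
  let Q := P.comp (C (n : ℚ) * X + 1)
  have hQdeg : Q.degree < ((X : ℚ[X]) ^ n).degree := by
    rw [degree_X_pow]
    refine lt_of_le_of_lt degree_le_natDegree (Nat.cast_lt.2 (lt_of_le_of_lt ?_ hlt))
    refine le_trans natDegree_comp_le (le_of_le_of_eq (Nat.mul_le_mul_left _ ?_) (mul_one _))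
    exact natDegree_add_le_of_degree_le ((natDegree_C_mul_le _ _).trans natDegree_X_le) (by simp)
  have ht := div_tendsto_zero_of_degree_lt (𝕜 := ℚ) Q (X ^ n) hQdeg
  have hp1 : 1 < p := (Fact.out : p.Prime).one_lt
  have hpe : Tendsto (fun e : ℕ => p ^ e) atTop atTop := tendsto_pow_atTop_atTop_of_one_lt hp1
  have hcast : Tendsto (fun e : ℕ => ((p ^ e : ℕ) : ℚ)) atTop atTop := tendsto_natCast_atTop_atTop.comp hpe
  have hlt1 := (ht.comp hcast).eventually (eventually_lt_nhds (show (0 : ℚ) < 1 by norm_num))
  have hn0 : 0 < n := by omega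
  have hk : Tendsto (fun e : ℕ => n * p ^ e + 1) atTop atTop := tendsto_atTop_mono (fun e => by
    have := Nat.le_mul_of_pos_left (p ^ e) hn0; omega) hpe
  obtain ⟨e, he1, he2⟩ := (hlt1.and (hk.eventually hP)).exists
  simp only [Function.comp_apply, eval_pow, eval_X] at he1
  have hpos : (0 : ℚ) < ((p ^ e : ℕ) : ℚ) ^ n := pow_pos (by exact_mod_cast Nat.pow_pos (by omega)) _
  rw [div_lt_one hpos] at he1
  have hQe : Q.eval ((p ^ e : ℕ) : ℚ) = (CommAlgDim.chi (Ring.jacobson R) R (n * p ^ e + 1) : ℚ) := by
    rw [he2]
    simp [Q]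
  rw [hQe] at he1
  have := hbound e
  have h9 : CommAlgDim.chi (Ring.jacobson R) R (n * p ^ e + 1) < (p ^ e) ^ n := by exact_mod_cast he1
  omega

/-- The Frobenius of a regular local ring is flat. -/
theorem flat_of_isRegularLocalRing {R : Type u} [CommRing R] [IsRegularLocalRing R] [CharP R p] :
    (frobenius R p).Flat := by
  obtain ⟨x, hx⟩ := exists_minimal_generators R
  have hd : ((maximalIdeal R).spanFinrank : WithBot ℕ∞) = ringKrullDim R := IsRegularLocalRing.spanFinrank_maximalIdeal
  have hlist : ∀ k : ℕ, k ≠ 0 → Ideal.ofList (List.ofFn fun i => x i ^ k) = Ideal.span (Set.range fun i => x i ^ k) :=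
    fun k _ => by rw [Ideal.ofList]; congr 1; ext r; simp [List.mem_ofFn]
  have hreg : ∀ k : ℕ, k ≠ 0 → RingTheory.Sequence.IsWeaklyRegular R (List.ofFn fun i => x i ^ k) := fun k hk => by
    refine (CommAlgDim.isRegular_of_dim (CommAlgDim.isCM_of_isRegularLocalRing R) (fun r hr => ?_) ?_).toIsWeaklyRegular
    · obtain ⟨i, rfl⟩ := List.mem_ofFn.1 hr
      exact Ideal.pow_mem_of_mem _ (hx.le (Ideal.subset_span ⟨i, rfl⟩)) k (Nat.pos_of_ne_zero hk)
    · rw [List.length_ofFn, hd, hlist k hk]
      have hzero : ringKrullDim (R ⧸ Ideal.span (Set.range fun i => x i ^ k)) ≤ 0 := by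
        haveI : Ring.KrullDimLE 0 (R ⧸ Ideal.span (Set.range fun i => x i ^ k)) := by
          refine Ring.KrullDimLE.mk₀ fun I hI => ?_
          haveI := hI
          have h1 : Ideal.span (Set.range fun i => x i ^ k) ≤ I.comap (Ideal.Quotient.mk _) := fun z hz => by
            rw [Ideal.mem_comap, Ideal.Quotient.eq_zero_iff_mem.2 hz]; exact I.zero_mem
          have h2 : maximalIdeal R ≤ I.comap (Ideal.Quotient.mk _) := by
            refine hx.ge.trans ?_
            refine Ideal.span_le.2 (Set.range_subset_iff.2 fun i => ?_)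
            exact (Ideal.IsPrime.comap (Ideal.Quotient.mk _)).mem_of_pow_mem k (h1 (Ideal.subset_span ⟨i, rfl⟩))
          have h3 := (maximalIdeal.isMaximal R).eq_of_le (Ideal.IsPrime.comap (Ideal.Quotient.mk _)).ne_top h2
          have : (I.comap (Ideal.Quotient.mk (Ideal.span (Set.range fun i => x i ^ k)))).IsMaximal := h3 ▸ maximalIdeal.isMaximal R
          rw [← Ideal.map_comap_of_surjective _ Ideal.Quotient.mk_surjective I]
          exact (Ideal.map_eq_top_or_isMaximal_of_surjective _ Ideal.Quotient.mk_surjective this).resolve_left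
            fun htop => hI.ne_top ((Ideal.map_comap_of_surjective _ Ideal.Quotient.mk_surjective I).symm.trans htop)
        exact Order.KrullDimLE.krullDim_le
      calc _ ≤ 0 + ringKrullDim R := add_le_add hzero le_rfl
        _ = _ := zero_add _
  have hp0 : p ≠ 0 := (Fact.out : p.Prime).ne_zero
  letI alg := (frobenius R p).toAlgebra
  show @Module.Flat R R _ _ alg.toModule
  have hl : IsLocalHom (frobenius R p) := ⟨fun r hr => (isUnit_pow_iff hp0).1 hr⟩
  refine @CMFlatLib.flat_of_regular_seq _ R _ _ _ R _ _ _ alg hl (List.ofFn x) rfl ?_ ?_ ?_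
  · simpa using hreg 1 one_ne_zero
  · rw [List.map_ofFn]
    exact hreg p hp0
  · rw [show List.ofFn x = List.ofFn fun i => x i ^ 1 by simp, hlist 1 one_ne_zero]
    simp only [pow_one]
    exact hx

end KunzLib
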